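import Cfsg.Agent.KFacts.M24Pair.Sub

-- merged: Cfsg.Agent.KFacts.M24Pair.TrioQ
section

/-!
# The group `Q = E V` of order `2^7` in `K = M24`

`E = ⟨X12, X13, X14, X15⟩` (octad group), `E' = ⟨X21, X23, X24, X25⟩` (second octad group of the trio),
`V = ⟨X23, X24, X25⟩ = E' ∩ N(E)`, `A = ⟨X13, X14, X15⟩`, `Q = E V`; `z = X15`.

`normQ_normE`: `N_K(Q)` normalises `E`; `fuse_Q`: elements of `Q - E` conjugate to `z` are `E`-conjugate
into `V`; `norm_E'`: `E' ∩ N_K(E) ≤ V`.
-/

set_option autoImplicit false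
set_option Elab.async false

namespace Cfsg.Agent.KFacts.M24Pair.TrioQ

open Cfsg Cfsg.Agent.SporadicA.GolayBase Cfsg.Agent.SporadicA.GolayPerm
open Cfsg.Agent.SporadicStructure.M24El Cfsg.Agent.KFacts.M24Pair.Cent
open Cfsg.Agent.KFacts.M24Pair.Letters Cfsg.Agent.KFacts.M24Pair.Sub

/-! ### Conjugation -/

/-- The check that `ev u` conjugates `gen ls` into `gen ls'`. -/
def nb (u ls ls' : List ℕ) : Bool :=
  ls.all fun l => (subs ls').any fun w => weqb (u ++ [l]) (w ++ u)

theorem conj_mem {u ls ls' : List ℕ} (h : nb u ls ls' = true) {g : M24} (hg : g ∈ gen ls) :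
    ev u * g * (ev u)⁻¹ ∈ gen ls' := by
  have h1 : (gen ls).map (MulAut.conj (ev u)).toMonoidHom ≤ gen ls' := by
    conv_lhs => unfold gen
    rw [MonoidHom.map_closure, Subgroup.closure_le]
    rintro _ ⟨_, ⟨k, hk, rfl⟩, rfl⟩
    obtain ⟨w, hw, hwe⟩ := List.any_eq_true.1 (List.all_eq_true.1 h k hk)
    have h2 := weq hwe
    rw [ev_append, ev_append, ev_cons, ev_nil, mul_one] at h2
    show ev u * xx k * (ev u)⁻¹ ∈ gen ls'
    rw [h2, mul_inv_cancel_right]
    exact ev_mem fun k hk => xx_mem (mem_of_mem_subs hw k hk)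
  exact h1 (Subgroup.mem_map_of_mem _ hg)

/-- Conjugates of `z = xx 3`: a table of words and conjugating words. -/
def cj (tab : List (List ℕ × List ℕ)) : Bool := tab.all fun p => weqb (p.2 ++ [3]) (p.1 ++ p.2)

theorem isConj_of_cj {tab : List (List ℕ × List ℕ)} (h : cj tab = true) {p : List ℕ × List ℕ}
    (hp : p ∈ tab) : IsConj (xx 3) (ev p.1) := by
  have h1 := weq (List.all_eq_true.1 h p hp)
  rw [ev_append, ev_append, ev_cons, ev_nil, mul_one] at h1
  rw [isConj_iff]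
  exact ⟨ev p.2, by rw [h1, mul_inv_cancel_right]⟩

/-! ### Membership and orders -/

theorem clo_E : clo [0,1,2,3] = true := by decide +kernel
theorem clo_V : clo [4,5,6] = true := by decide +kernel
theorem clo_E' : clo [16,4,5,6] = true := by decide +kernel
theorem clo_A : clo [1,2,3] = true := by decide +kernel
theorem clo_Q : clo [0,1,2,3,4,5,6] = true := by decide +kernel

theorem card_E : Nat.card (gen [0,1,2,3]) = 16 := card_gen clo_E (by decide +kernel)
theorem card_V : Nat.card (gen [4,5,6]) = 8 := card_gen clo_V (by decide +kernel)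
theorem card_E' : Nat.card (gen [16,4,5,6]) = 16 := card_gen clo_E' (by decide +kernel)
theorem card_A : Nat.card (gen [1,2,3]) = 8 := card_gen clo_A (by decide +kernel)
theorem card_Q : Nat.card (gen [0,1,2,3,4,5,6]) = 128 := card_gen clo_Q (by decide +kernel)

theorem gen_mono {ls ls' : List ℕ} (h : ∀ k ∈ ls, k ∈ ls') : gen ls ≤ gen ls' :=
  gen_le fun k hk => xx_mem (h k hk)

theorem E_le_Q : gen [0,1,2,3] ≤ gen [0,1,2,3,4,5,6] := gen_mono (by decide)
theorem V_le_Q : gen [4,5,6] ≤ gen [0,1,2,3,4,5,6] := gen_mono (by decide)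
theorem A_le_E : gen [1,2,3] ≤ gen [0,1,2,3] := gen_mono (by decide)
theorem V_le_E' : gen [4,5,6] ≤ gen [16,4,5,6] := gen_mono (by decide)

/-- Sublists of an appended list. -/
theorem exists_append {l l' : List ℕ} : ∀ {w : List ℕ}, w ∈ subs (l ++ l') →
    ∃ u ∈ subs l, ∃ v ∈ subs l', w = u ++ v := by
  induction l with
  | nil =>
    intro w h
    exact ⟨[], nil_mem_subs [], w, h, rfl⟩
  | cons a l ih =>
    intro w h
    rw [List.cons_append, subs, List.mem_append] at h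
    rcases h with h | h
    · obtain ⟨v, hv, rfl⟩ := List.mem_map.1 h
      obtain ⟨u, hu, v', hv', rfl⟩ := ih hv
      refine ⟨a :: u, ?_, v', hv', rfl⟩
      rw [subs, List.mem_append]
      exact Or.inl (List.mem_map_of_mem hu)
    · obtain ⟨u, hu, v', hv', rfl⟩ := ih h
      refine ⟨u, ?_, v', hv', rfl⟩
      rw [subs, List.mem_append]
      exact Or.inr hu

/-- `Q = E V`, with words. -/
theorem exists_words {g : M24} (hg : g ∈ gen [0,1,2,3,4,5,6]) :
    ∃ u ∈ subs [0,1,2,3], ∃ v ∈ subs [4,5,6], g = ev u * ev v := by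
  obtain ⟨w, hw, rfl⟩ := (mem_gen_iff clo_Q g).1 hg
  obtain ⟨u, hu, v, hv, rfl⟩ := exists_append (l := [0,1,2,3]) (l' := [4,5,6]) hw
  exact ⟨u, hu, v, hv, ev_append u v⟩

theorem ev_mem_E {u : List ℕ} (hu : u ∈ subs [0,1,2,3]) : ev u ∈ gen [0,1,2,3] :=
  (mem_gen_iff clo_E _).2 ⟨u, hu, rfl⟩

theorem ev_mem_V {u : List ℕ} (hu : u ∈ subs [4,5,6]) : ev u ∈ gen [4,5,6] :=
  (mem_gen_iff clo_V _).2 ⟨u, hu, rfl⟩

/-- `Q = E V`. -/
theorem mem_Q_iff {g : M24} : g ∈ gen [0,1,2,3,4,5,6] ↔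
    ∃ e ∈ gen [0,1,2,3], ∃ v ∈ gen [4,5,6], g = e * v := by
  constructor
  · intro hg
    obtain ⟨u, hu, v, hv, rfl⟩ := exists_words hg
    exact ⟨_, ev_mem_E hu, _, ev_mem_V hv, rfl⟩
  · rintro ⟨e, he, v, hv, rfl⟩
    exact mul_mem (E_le_Q he) (V_le_Q hv)

/-! ### The points -/

/-- the octad fixed by `E` -/
def oct : List ℕ := [6, 7, 11, 12, 13, 15, 16, 20]

/-- the other points -/
def out : List ℕ := [0, 1, 2, 3, 4, 5, 8, 9, 10, 14, 17, 18, 19, 21, 22, 23]

theorem mem_oct_or {i : ℕ} (hi : i < 24) : i ∈ oct ∨ i ∈ out := by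
  interval_cases i <;> decide

/-- the action of words on the indices -/
theorem idx_ev (w : List ℕ) {i : ℕ} (hi : i < 24) : idx (ev w • pt i) = papp (prodW gx w) i := by
  rw [← el_prodW_eq, idx_el_smul (ok_prodW gx_ok w), idx_pt hi]

theorem E_oct : ∀ u ∈ subs [0,1,2,3], ∀ i ∈ oct, Nat.beq (papp (prodW gx u) i) i = true := by
  decide +kernel

theorem E_out : ∀ u ∈ subs [0,1,2,3], u = [] ∨ ∀ i ∈ out, Nat.beq (papp (prodW gx u) i) i = false := by
  decide +kernel

theorem V_oct : ∀ u ∈ subs [4,5,6], u = [] ∨ ∀ i ∈ oct, Nat.beq (papp (prodW gx u) i) i = false := by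
  decide +kernel

theorem Q_oct : ∀ l ∈ [0,1,2,3,4,5,6], ∀ i ∈ oct,
    oct.any (Nat.beq (papp (gx.getD l idP) i)) = true := by
  decide +kernel

theorem fix_oct {g : M24} (hg : g ∈ gen [0,1,2,3]) {i : ℕ} (hi : i ∈ oct) : g • pt i = pt i := by
  obtain ⟨u, hu, rfl⟩ := (mem_gen_iff clo_E g).1 hg
  have h24 : i < 24 := by
    have : ∀ i ∈ oct, i < 24 := by decide
    exact this i hi
  apply idx_injective
  rw [idx_ev u h24, idx_pt h24]
  exact Nat.eq_of_beq_eq_true (E_oct u hu i hi)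

theorem eq_one_of_fix_out {g : M24} (hg : g ∈ gen [0,1,2,3]) {i : ℕ} (hi : i ∈ out)
    (h : g • pt i = pt i) : g = 1 := by
  obtain ⟨u, hu, rfl⟩ := (mem_gen_iff clo_E g).1 hg
  have h24 : i < 24 := by
    have : ∀ i ∈ out, i < 24 := by decide
    exact this i hi
  rcases E_out u hu with rfl | h1
  · rfl
  · have h2 := congrArg idx h
    rw [idx_ev u h24, idx_pt h24] at h2
    have h3 := h1 i hi
    rw [h2, Nat.beq_refl] at h3
    exact Bool.noConfusion h3

theorem mem_E_of_fix_oct {g : M24} (hg : g ∈ gen [0,1,2,3,4,5,6]) {i : ℕ} (hi : i ∈ oct)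
    (h : g • pt i = pt i) : g ∈ gen [0,1,2,3] := by
  obtain ⟨u, hu, v, hv, rfl⟩ := exists_words hg
  have h24 : i < 24 := by
    have : ∀ i ∈ oct, i < 24 := by decide
    exact this i hi
  rcases V_oct v hv with rfl | h1
  · rw [ev_nil, mul_one]
    exact ev_mem_E hu
  · exfalso
    have h4 : ev v • pt i = pt i := by
      have h5 := fix_oct (ev_mem_E hu) hi
      rw [mul_smul] at h
      exact MulAction.injective (ev u) (h.trans h5.symm)
    have h2 := congrArg idx h4
    rw [idx_ev v h24, idx_pt h24] at h2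
    have h3 := h1 i hi
    rw [h2, Nat.beq_refl] at h3
    exact Bool.noConfusion h3

/-- `Q` preserves the octad. -/
theorem Q_smul_oct {g : M24} (hg : g ∈ gen [0,1,2,3,4,5,6]) :
    ∀ i ∈ oct, ∃ j ∈ oct, g • pt i = pt j := by
  unfold gen at hg
  have hstep : ∀ l ∈ [0,1,2,3,4,5,6], ∀ i ∈ oct, ∃ j ∈ oct, xx l • pt i = pt j := by
    intro l hl i hi
    obtain ⟨j, hj, hje⟩ := List.any_eq_true.1 (Q_oct l hl i hi)
    refine ⟨j, hj, ?_⟩
    have h24 : ∀ i ∈ oct, i < 24 := by decide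
    apply idx_injective
    show idx (el (gx.getD l idP) • pt i) = _
    rw [idx_el_smul (ok_getD gx_ok l), idx_pt (h24 i hi), idx_pt (h24 j hj)]
    exact Nat.eq_of_beq_eq_true hje
  refine Subgroup.closure_induction_left
    (p := fun x _ => ∀ i ∈ oct, ∃ j ∈ oct, x • pt i = pt j) ?_ ?_ ?_ hg
  · intro i hi
    exact ⟨i, hi, one_smul _ _⟩
  · rintro _ ⟨l, hl, rfl⟩ y _ hy i hi
    obtain ⟨j, hj, hje⟩ := hy i hi
    obtain ⟨k, hk, hke⟩ := hstep l hl j hj
    exact ⟨k, hk, by rw [mul_smul, hje, hke]⟩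
  · rintro _ ⟨l, hl, rfl⟩ y _ hy i hi
    obtain ⟨j, hj, hje⟩ := hy i hi
    obtain ⟨k, hk, hke⟩ := hstep l hl j hj
    have h12 : l < 12 := by
      have : ∀ l ∈ [0,1,2,3,4,5,6], l < 12 := by decide
      exact this l hl
    refine ⟨k, hk, ?_⟩
    rw [inv_eq_of_mul_eq_one_left (xx_sq h12), mul_smul, hje, hke]

/-- **`N_K(Q)` normalises `E`.** -/
theorem normQ_normE {g : M24} (hg : ∀ q ∈ gen [0,1,2,3,4,5,6], g * q * g⁻¹ ∈ gen [0,1,2,3,4,5,6])
    {e : M24} (he : e ∈ gen [0,1,2,3]) : g * e * g⁻¹ ∈ gen [0,1,2,3] := by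
  have h24 : ∀ i ∈ oct, i < 24 := by decide
  -- `g` maps the octad to itself
  have hfix : ∀ e ∈ gen [0,1,2,3], ∀ i ∈ oct, (g * e * g⁻¹) • (g • pt i) = g • pt i := by
    intro e he i hi
    rw [mul_smul, mul_smul, inv_smul_smul, fix_oct he hi]
  have hoct : ∀ i ∈ oct, ∃ j ∈ oct, g • pt i = pt j := by
    intro i hi
    by_contra hne
    push Not at hne
    set j := idx (g • pt i) with hj
    have hj24 : j < 24 := idx_lt _
    have hpj : pt j = g • pt i := pt_idx _
    have hjout : j ∈ out := by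
      rcases mem_oct_or hj24 with h | h
      · exact absurd hpj.symm (hne j h)
      · exact h
    -- the map `E → V`
    have hdec : ∀ e : gen [0,1,2,3], ∃ v : gen [4,5,6], ∃ e' ∈ gen [0,1,2,3],
        g * (e : M24) * g⁻¹ = e' * (v : M24) := by
      intro e
      obtain ⟨e', he', v, hv, h⟩ := mem_Q_iff.1 (hg e (E_le_Q e.2))
      exact ⟨⟨v, hv⟩, e', he', h⟩
    choose f e' he' hfe using hdec
    have hinj : Function.Injective f := by
      intro a b hab
      have h1 : g * ((a : M24) * (b : M24)⁻¹) * g⁻¹ = e' a * (e' b)⁻¹ := by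
        have h2 : g * ((a : M24) * (b : M24)⁻¹) * g⁻¹ =
            (g * (a : M24) * g⁻¹) * (g * (b : M24) * g⁻¹)⁻¹ := by group
        rw [h2, hfe a, hfe b, hab]
        group
      have h3 : e' a * (e' b)⁻¹ ∈ gen [0,1,2,3] := mul_mem (he' a) (inv_mem (he' b))
      have h4 : (e' a * (e' b)⁻¹) • pt j = pt j := by
        rw [← h1, hpj]
        exact hfix _ (mul_mem a.2 (inv_mem b.2)) i hi
      have h5 := eq_one_of_fix_out h3 hjout h4
      rw [h5] at h1
      have h6 : (a : M24) * (b : M24)⁻¹ = 1 := by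
        have h7 : (a : M24) * (b : M24)⁻¹ = g⁻¹ * (g * ((a : M24) * (b : M24)⁻¹) * g⁻¹) * g := by
          group
        rw [h7, h1]
        group
      exact Subtype.ext (mul_inv_eq_one.1 h6)
    have h8 := Nat.card_le_card_of_injective f hinj
    rw [card_E, card_V] at h8
    omega
  obtain ⟨j, hj, hje⟩ := hoct 6 (by decide)
  refine mem_E_of_fix_oct (hg e (E_le_Q he)) hj ?_
  rw [← hje]
  exact hfix e he 6 (by decide)

/-! ### Fusion -/

theorem fuse_tab : ∀ u ∈ subs [0,1,2,3], ∀ v ∈ subs [4,5,6], v = [] ∨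
    ((List.range 24).all fun i => !(Nat.beq (papp (prodW gx (u ++ v)) i) i)) = true ∨
    ((subs [4,5,6]).any fun w => weqb (u ++ v) w || weqb ([0] ++ (u ++ v) ++ [0]) w) = true := by
  decide +kernel

theorem z_fix : xx 3 • pt 6 = pt 6 := fix_oct (xx_mem (by decide)) (by decide)

/-- **Elements of `Q - E` conjugate to `z` are `E`-conjugate into `V`.** -/
theorem fuse_Q {g : M24} (hg : g ∈ gen [0,1,2,3,4,5,6]) (hE : g ∉ gen [0,1,2,3])
    (hc : IsConj (xx 3) g) : ∃ e ∈ gen [0,1,2,3], e * g * e⁻¹ ∈ gen [4,5,6] := by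
  obtain ⟨u, hu, v, hv, rfl⟩ := exists_words hg
  rcases fuse_tab u hu v hv with rfl | h | h
  · exact absurd (by rw [ev_nil, mul_one]; exact ev_mem_E hu) hE
  · exfalso
    obtain ⟨c, hc⟩ := isConj_iff.1 hc
    set i := idx (c • pt 6) with hi
    have h1 : (ev u * ev v) • pt i = pt i := by
      rw [← hc, hi, pt_idx, mul_smul, mul_smul, inv_smul_smul, z_fix]
    have h2 := congrArg idx h1
    rw [← ev_append, idx_ev _ (idx_lt _), idx_pt (idx_lt _)] at h2
    have h3 := List.all_eq_true.1 h i (List.mem_range.2 (idx_lt _))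
    rw [h2, Nat.beq_refl] at h3
    exact Bool.noConfusion h3
  · obtain ⟨w, hw, h1⟩ := List.any_eq_true.1 h
    rw [Bool.or_eq_true] at h1
    rcases h1 with h1 | h1
    · refine ⟨1, one_mem _, ?_⟩
      have h2 := weq h1
      rw [ev_append] at h2
      rw [h2, one_mul, inv_one, mul_one]
      exact ev_mem_V hw
    · refine ⟨xx 0, xx_mem (by decide), ?_⟩
      have h2 := weq h1
      rw [ev_append, ev_append, ev_append, ev_cons, ev_nil, mul_one] at h2
      rw [inv_eq_of_mul_eq_one_left (xx_sq (k := 0) (by norm_num)), h2]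
      exact ev_mem_V hw

/-! ### `V`, `A` and `E'` -/

theorem cV_tab : ∀ u ∈ subs [0,1,2,3], ∀ v ∈ subs [4,5,6], v = [] ∨ 0 ∉ u ∨
    Nat.beq (can (prodW gx (u ++ v))) (can (prodW gx (v ++ u))) = false := by
  decide +kernel

/-- `C_E(v) = A` for `1 ≠ v ∈ V`. -/
theorem mem_A_of_comm {e v : M24} (he : e ∈ gen [0,1,2,3]) (hv : v ∈ gen [4,5,6]) (h1 : v ≠ 1)
    (h : e * v = v * e) : e ∈ gen [1,2,3] := by
  obtain ⟨u, hu, rfl⟩ := (mem_gen_iff clo_E e).1 he
  obtain ⟨v, hv', rfl⟩ := (mem_gen_iff clo_V v).1 hv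
  rcases cV_tab u hu v hv' with rfl | h2 | h2
  · exact absurd ev_nil h1
  · have h3 := mem_of_mem_subs hu
    refine ev_mem fun k hk => xx_mem ?_
    have h4 := h3 k hk
    have h5 : k ≠ 0 := fun h => h2 (h ▸ hk)
    simp only [List.mem_cons, List.not_mem_nil, or_false] at h4 ⊢
    tauto
  · rw [← ev_append, ← ev_append, ← el_prodW_eq, ← el_prodW_eq] at h
    rw [can_eq_of_el (ok_prodW gx_ok _) (ok_prodW gx_ok _) h, Nat.beq_refl] at h2
    exact Bool.noConfusion h2

theorem A_comm_tab : ∀ k ∈ [1,2,3], ∀ l ∈ [0,1,2,3,4,5,6], weqb [k, l] [l, k] = true := by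
  decide +kernel

/-- `A` is central in `Q`. -/
theorem A_comm {a q : M24} (ha : a ∈ gen [1,2,3]) (hq : q ∈ gen [0,1,2,3,4,5,6]) :
    a * q = q * a := by
  have h1 : gen [0,1,2,3,4,5,6] ≤ Subgroup.centralizer (gen [1,2,3] : Set M24) := by
    rw [Subgroup.le_centralizer_iff]
    refine gen_le fun k hk => ?_
    rw [Subgroup.mem_centralizer_iff]
    intro q hq
    have h2 : gen [0,1,2,3,4,5,6] ≤ Subgroup.centralizer {xx k} := by
      refine gen_le fun l hl => ?_
      rw [Subgroup.mem_centralizer_singleton_iff]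
      have h3 := weq (A_comm_tab k hk l hl)
      simp only [ev_cons, ev_nil, mul_one] at h3
      exact h3.symm
    exact (Subgroup.mem_centralizer_singleton_iff.1 (h2 hq))
  exact Subgroup.mem_centralizer_iff.1 (h1 hq) a ha

theorem VE_tab : ∀ u ∈ subs [0,1,2,3], ∀ v ∈ subs [4,5,6], v = [] ∨
    Nat.beq (can (prodW gx u)) (can (prodW gx v)) = false := by
  decide +kernel

/-- `V ∩ E = 1`. -/
theorem eq_one_of_mem {g : M24} (hE : g ∈ gen [0,1,2,3]) (hV : g ∈ gen [4,5,6]) : g = 1 := by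
  obtain ⟨u, hu, rfl⟩ := (mem_gen_iff clo_E g).1 hE
  obtain ⟨v, hv, h⟩ := (mem_gen_iff clo_V _).1 hV
  rcases VE_tab u hu v hv with rfl | h2
  · exact h
  · exfalso
    rw [← el_prodW_eq, ← el_prodW_eq] at h
    rw [can_eq_of_el (ok_prodW gx_ok _) (ok_prodW gx_ok _) h, Nat.beq_refl] at h2
    exact Bool.noConfusion h2

theorem E'_tab : ∀ v ∈ subs [4,5,6], ∀ u ∈ subs [0,1,2,3],
    Nat.beq (can (prodW gx (16 :: v ++ [1]))) (can (prodW gx (u ++ 16 :: v))) = false := by
  decide +kernel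

/-- **`E' ∩ N_K(E) ≤ V`.** -/
theorem norm_E' {g : M24} (hg : g ∈ gen [16,4,5,6])
    (hn : ∀ e ∈ gen [0,1,2,3], g * e * g⁻¹ ∈ gen [0,1,2,3]) : g ∈ gen [4,5,6] := by
  obtain ⟨w, hw, rfl⟩ := (mem_gen_iff clo_E' g).1 hg
  rw [subs, List.mem_append] at hw
  rcases hw with hw | hw
  · exfalso
    obtain ⟨v, hv, rfl⟩ := List.mem_map.1 hw
    obtain ⟨u, hu, h⟩ := (mem_gen_iff clo_E _).1 (hn (xx 1) (xx_mem (by decide)))
    have h1 : ev (16 :: v ++ [1]) = ev (u ++ 16 :: v) := by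
      rw [ev_append, ev_append, ← h, ev_cons 1, ev_nil, mul_one]
      group
    have h2 := E'_tab v hv u hu
    rw [← el_prodW_eq, ← el_prodW_eq] at h1
    rw [can_eq_of_el (ok_prodW gx_ok _) (ok_prodW gx_ok _) h1, Nat.beq_refl] at h2
    exact Bool.noConfusion h2
  · exact ev_mem_V hw

/-- `V` normalises `E`. -/
theorem V_norm {v : M24} (hv : v ∈ gen [4,5,6]) {e : M24} (he : e ∈ gen [0,1,2,3]) :
    v * e * v⁻¹ ∈ gen [0,1,2,3] := by
  obtain ⟨v', hv', rfl⟩ := (mem_gen_iff clo_V _).1 hv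
  have h : ∀ v ∈ subs [4,5,6], nb v [0,1,2,3] [0,1,2,3] = true := by decide +kernel
  exact conj_mem (h v' hv') he

/-- `E' = n E n⁻¹`, `n = xx 17`. -/
theorem E_conj {e : M24} (he : e ∈ gen [0,1,2,3]) : xx 17 * e * (xx 17)⁻¹ ∈ gen [16,4,5,6] := by
  have h := conj_mem (u := [17]) (ls := [0,1,2,3]) (ls' := [16,4,5,6]) (by decide +kernel) he
  rwa [ev_cons, ev_nil, mul_one] at h

theorem E'_conj {e : M24} (he : e ∈ gen [16,4,5,6]) : xx 17 * e * (xx 17)⁻¹ ∈ gen [0,1,2,3] := by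
  have h := conj_mem (u := [17]) (ls := [16,4,5,6]) (ls' := [0,1,2,3]) (by decide +kernel) he
  rwa [ev_cons, ev_nil, mul_one] at h

theorem n_sq : xx 17 * xx 17 = 1 := by
  have h := weq (u := [17, 17]) (v := []) (by decide +kernel)
  simpa only [ev_cons, ev_nil, mul_one] using h

/-- The table of conjugates. -/
def tabE : List (List ℕ × List ℕ) := [([0], [4, 10, 7, 11, 14]), ([1], [7, 11, 14]), ([2], [14]),
  ([3], []), ([0, 1], [10, 7, 11, 14]), ([0, 2], [4, 10, 11, 14]), ([0, 3], [15, 4, 10, 11, 14]),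
  ([1, 2], [11, 14]), ([1, 3], [15, 11, 14]), ([2, 3], [15]), ([0, 1, 2], [10, 11, 14]),
  ([0, 1, 3], [15, 10, 11, 14]), ([0, 2, 3], [4, 10, 11, 15]), ([1, 2, 3], [11, 15]),
  ([0, 1, 2, 3], [10, 11, 15])]

theorem tabE_ok : cj tabE = true := by decide +kernel

/-- **The nontrivial elements of `E` are conjugate to `z`.** -/
theorem E_conj_z {e : M24} (he : e ∈ gen [0,1,2,3]) (h1 : e ≠ 1) : IsConj (xx 3) e := by
  obtain ⟨u, hu, rfl⟩ := (mem_gen_iff clo_E e).1 he
  have h : ∀ u ∈ subs [0,1,2,3], u = [] ∨ u ∈ tabE.map Prod.fst := by decide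
  rcases h u hu with rfl | h2
  · exact absurd ev_nil h1
  · obtain ⟨p, hp, rfl⟩ := List.mem_map.1 h2
    exact isConj_of_cj tabE_ok hp

theorem E'_conj_z {e : M24} (he : e ∈ gen [16,4,5,6]) (h1 : e ≠ 1) : IsConj (xx 3) e := by
  have h2 := E_conj_z (E'_conj he) (by
    intro h
    apply h1
    rw [mul_inv_eq_one] at h
    exact mul_eq_left.1 h)
  refine h2.trans ?_
  rw [isConj_iff]
  refine ⟨(xx 17)⁻¹, by group⟩

theorem V_conj_z {e : M24} (he : e ∈ gen [4,5,6]) (h1 : e ≠ 1) : IsConj (xx 3) e :=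
  E'_conj_z (V_le_E' he) h1

end Cfsg.Agent.KFacts.M24Pair.TrioQ

end

-- merged: Cfsg.Agent.KFacts.M24Pair.Fix
section

/-!
# Elements of `Cfsg.M24` fixing many points; `C_K(A) = Q`

`eq_one_of_sep`: an element fixing the points of the mask `F` is trivial if the octads of a list `sep`, meeting `F` in at
least five points, separate the other points. `mem_Q_of_comm`: the centralizer of `A = ⟨X13, X14, X15⟩` is
`Q = ⟨X12, …, X25⟩` (order `2^7`).
-/

set_option autoImplicit false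
set_option Elab.async false

namespace Cfsg.Agent.KFacts.M24Pair.Fix

open Cfsg Cfsg.Agent.SporadicA.GolayBase Cfsg.Agent.SporadicA.GolayPerm
open Cfsg.Agent.SporadicStructure.M24El Cfsg.Agent.KFacts.M24Pair.Cent
open Cfsg.Agent.KFacts.M24Pair.Letters Cfsg.Agent.KFacts.M24Pair.Sub
open Cfsg.Agent.KFacts.M24Pair.TrioQ
open scoped Pointwise

/-- **Elements fixing many points.** -/
theorem eq_one_of_sep {F : ℕ} {sep : List ℕ}
    (h1 : ∀ m ∈ sep, isCode m = true ∧ popcount m = 8 ∧ 5 ≤ popcount (m &&& F))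
    (h2 : ∀ i < 24, ∀ j < 24, F.testBit i = false → F.testBit j = false →
      (∀ m ∈ sep, m.testBit i = m.testBit j) → i = j) {g : M24}
    (hg : ∀ i < 24, F.testBit i = true → g • pt i = pt i) : g = 1 := by
  set τ : Equiv.Perm GolayPt := (g : Equiv.Perm GolayPt) with hτ
  have hfix : ∀ p ∈ fin F, τ p = p := by
    intro p hp
    rw [mem_fin] at hp
    have h := hg _ (idx_lt p) hp
    rw [pt_idx] at h
    exact h
  have h3 : ∀ m ∈ sep, τ • fin m = fin m := by
    intro m hm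
    have h4 := h1 m hm
    have h5 : fin m ∈ octads := (fin_mem_octads_iff (isCode_lt h4.1)).2 ⟨h4.1, h4.2.1⟩
    apply octad_unique ((smul_mem_octads g.2).2 h5) h5
    have h6 : fin (m &&& F) ⊆ τ • fin m ∩ fin m := by
      rw [fin_and]
      intro p hp
      rw [Finset.mem_inter] at hp ⊢
      refine ⟨?_, hp.1⟩
      rw [← hfix p hp.2]
      exact Finset.smul_mem_smul_finset hp.1
    have h7 := Finset.card_le_card h6
    rw [card_fin] at h7
    exact h4.2.2.trans h7
  have h8 : ∀ p ∈ fin F, (τ p = p) := hfix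
  apply Subtype.ext
  ext1 p
  show τ p = p
  by_cases hp : p ∈ fin F
  · exact hfix p hp
  · have hgp : τ p ∉ fin F := by
      intro h
      have := hfix _ h
      exact hp ((τ.injective this) ▸ h)
    apply idx_injective
    rw [mem_fin] at hp hgp
    apply h2 _ (idx_lt _) _ (idx_lt _) (Bool.eq_false_iff.2 hgp) (Bool.eq_false_iff.2 hp)
    intro m hm
    have h9 := h3 m hm
    rw [Bool.eq_iff_iff, ← mem_fin, ← mem_fin]
    constructor
    · intro h10
      rw [← h9] at h10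
      exact (mem_smul_iff τ _ p).1 h10
    · intro h10
      rw [← h9]
      exact (mem_smul_iff τ _ p).2 h10

/-! ### The centralizer of `A` -/

/-- octads meeting `oct` in two points -/
def sepA : List ℕ := [11010247, 919694, 11163650, 7221256, 9347075, 2605066]

theorem sepA_ok : ∀ m ∈ sepA, isCode m = true ∧ popcount m = 8 ∧ 5 ≤ popcount (m &&& 15615807) := by
  decide +kernel

theorem sepA_sep : ∀ i < 24, ∀ j < 24, Nat.testBit 15615807 i = false →
    Nat.testBit 15615807 j = false → (∀ m ∈ sepA, m.testBit i = m.testBit j) → i = j := by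
  decide +kernel

/-- the two orbits of `A` outside the octad -/
def oa : List ℕ := [0, 3, 2, 1, 23, 17, 5, 14]
/-- the second orbit -/
def ob : List ℕ := [4, 8, 9, 18, 21, 22, 19, 10]

theorem out_or : ∀ i < 24, Nat.testBit 15615807 i = true → i ∈ oa ∨ i ∈ ob := by decide +kernel

theorem oa_tab : ∀ i ∈ oa, ∃ w ∈ subs [1,2,3], Nat.beq (papp (prodW gx w) 0) i = true := by
  decide +kernel

theorem ob_tab : ∀ i ∈ ob, ∃ w ∈ subs [1,2,3], Nat.beq (papp (prodW gx w) 4) i = true := by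
  decide +kernel

theorem fix_A : ∀ i < 24, (i ∈ oct ∨ Nat.beq (papp (prodW gx [3]) i) i = false) := by decide +kernel

/-- whether two points lie in the same orbit of `A` -/
def same (c d : ℕ) : Bool := (oa.any (Nat.beq c) && oa.any (Nat.beq d)) ||
  (ob.any (Nat.beq c) && ob.any (Nat.beq d))

theorem pairs_tab : (out.all fun c => out.all fun d => same c d ||
    ((subs [0,1,2,3,4,5,6]).map fun w => papp (prodW gx w) 0 + 32 * papp (prodW gx w) 4).any
      (Nat.beq (c + 32 * d))) = true := by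
  decide +kernel

theorem same_tab : ∀ c < 24, ∀ d < 24, same c d = true → ∃ w ∈ subs [1,2,3],
    Nat.beq (papp (prodW gx w) c) d = true := by
  decide +kernel

/-- **`C_K(A) = Q`.** -/
theorem mem_Q_of_comm {g : M24} (h : ∀ a ∈ gen [1,2,3], g * a = a * g) :
    g ∈ gen [0,1,2,3,4,5,6] := by
  have hsm : ∀ a ∈ gen [1,2,3], ∀ p : GolayPt, g • a • p = a • g • p := by
    intro a ha p
    rw [← mul_smul, ← mul_smul, h a ha]
  -- `g` preserves `out`
  have hout : ∀ i ∈ out, idx (g • pt i) ∈ out := by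
    intro i hi
    have h24 : i < 24 := by
      have : ∀ i ∈ out, i < 24 := by decide
      exact this i hi
    rcases mem_oct_or (idx_lt (g • pt i)) with h1 | h1
    · exfalso
      have h2 := fix_oct (xx_mem (ls := [0,1,2,3]) (k := 3) (by decide)) h1
      rw [pt_idx, ← hsm _ (xx_mem (by decide))] at h2
      have h3 := MulAction.injective g h2
      have h4 := eq_one_of_fix_out (xx_mem (ls := [0,1,2,3]) (k := 3) (by decide)) hi h3
      have h5 : ev [3] ≠ ev [] := wne (by decide +kernel)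
      apply h5
      rw [ev_cons, ev_nil, mul_one, h4]
    · exact h1
  set c := idx (g • pt 0) with hc
  set d := idx (g • pt 4) with hd
  have hc' : g • pt 0 = pt c := (pt_idx _).symm
  have hd' : g • pt 4 = pt d := (pt_idx _).symm
  have hns : same c d = false := by
    by_contra hs
    rw [Bool.not_eq_false] at hs
    obtain ⟨w, hw, hwe⟩ := same_tab c (idx_lt _) d (idx_lt _) hs
    have hwA : ev w ∈ gen [1,2,3] := (mem_gen_iff clo_A _).2 ⟨w, hw, rfl⟩
    have h1 : ev w • pt c = pt d := by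
      apply idx_injective
      rw [idx_ev w (idx_lt _), idx_pt (idx_lt _)]
      exact Nat.eq_of_beq_eq_true hwe
    rw [← hc', ← hd', ← hsm _ hwA] at h1
    have h2 := MulAction.injective g h1
    have h3 : ∀ w ∈ subs [1,2,3], Nat.beq (papp (prodW gx w) 0) 4 = false := by decide +kernel
    have h4 := congrArg idx h2
    rw [idx_ev w (by norm_num), idx_pt (by norm_num)] at h4
    have h5 := h3 w hw
    rw [h4] at h5
    exact Bool.noConfusion h5
  have hq := List.all_eq_true.1 (List.all_eq_true.1 pairs_tab c (hout 0 (by decide))) d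
    (hout 4 (by decide))
  rw [hns, Bool.false_or] at hq
  obtain ⟨y, hy, hye⟩ := List.any_eq_true.1 hq
  obtain ⟨w, hw, rfl⟩ := List.mem_map.1 hy
  have hye := Nat.eq_of_beq_eq_true hye
  have hb1 : papp (prodW gx w) 0 < 24 := papp_lt (ok_iff.1 (ok_prodW gx_ok w)).1 (by norm_num)
  have hc24 : c < 24 := idx_lt _
  have e1 : papp (prodW gx w) 0 = c := by omega
  have e2 : papp (prodW gx w) 4 = d := by omega
  have hwQ : ev w ∈ gen [0,1,2,3,4,5,6] := (mem_gen_iff clo_Q _).2 ⟨w, hw, rfl⟩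
  have hw0 : ev w • pt 0 = g • pt 0 := by
    apply idx_injective
    rw [idx_ev w (by norm_num), e1]
  have hw4 : ev w • pt 4 = g • pt 4 := by
    apply idx_injective
    rw [idx_ev w (by norm_num), e2]
  -- `(ev w)⁻¹ g` fixes all the points of `out`
  have hone : (ev w)⁻¹ * g = 1 := by
    have hcomm : ∀ a ∈ gen [1,2,3], ((ev w)⁻¹ * g) * a = a * ((ev w)⁻¹ * g) := by
      intro a ha
      have h1 := A_comm ha hwQ
      rw [mul_assoc, h a ha, ← mul_assoc, ← mul_assoc]
      congr 1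
      rw [inv_mul_eq_iff_eq_mul, ← mul_assoc, ← h1, mul_inv_cancel_right]
    have hf : ∀ (i₀ i : ℕ), i₀ < 24 → i < 24 → ((ev w)⁻¹ * g) • pt i₀ = pt i₀ →
        (∃ v ∈ subs [1,2,3], Nat.beq (papp (prodW gx v) i₀) i = true) →
        ((ev w)⁻¹ * g) • pt i = pt i := by
      rintro i₀ i hi₀ hi h0 ⟨v, hv, hve⟩
      have h1 : ev v • pt i₀ = pt i := by
        apply idx_injective
        rw [idx_ev v hi₀, idx_pt hi]
        exact Nat.eq_of_beq_eq_true hve
      rw [← h1, ← mul_smul, hcomm _ ((mem_gen_iff clo_A _).2 ⟨v, hv, rfl⟩), mul_smul, h0]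
    refine eq_one_of_sep sepA_ok sepA_sep ?_
    intro i hi hF
    rcases out_or i hi hF with h1 | h1
    · exact hf 0 i (by norm_num) hi (by rw [mul_smul, ← hw0, inv_smul_smul]) (oa_tab i h1)
    · exact hf 4 i (by norm_num) hi (by rw [mul_smul, ← hw4, inv_smul_smul]) (ob_tab i h1)
  rw [inv_mul_eq_one] at hone
  rw [← hone]
  exact hwQ

end Cfsg.Agent.KFacts.M24Pair.Fix

end
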