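import Cfsg.Agent.SporadicStructure.M24El

-- merged: Cfsg.Agent.KFacts.M24Pair.Cent
section

/-!
# Centralizers in `Cfsg.M24` of explicit lists of permutations, by kernel computation

`mem_of_comm`: if the Boolean check `chk cs data wd L` succeeds, then every element of `M24` which
commutes with the elements `el c`, `c ∈ cs`, is `el P` for a member `P` of the list `L`.
`data` lists, for every orbit of `⟨cs⟩` on the 24 points, a representative and words fixing it;
`wd` gives for every point the number of its representative and a word moving the representative to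
the point. Any number of orbits is allowed.
-/

set_option autoImplicit false

namespace Cfsg.Agent.KFacts.M24Pair.Cent

open Cfsg Cfsg.Agent.SporadicA.GolayBase Cfsg.Agent.SporadicA.GolayPerm
open Cfsg.Agent.SporadicStructure.M24El

/-- The image of the index `j` under the word `w` in the list `cs`. -/
def ap (cs : List ℕ) (w : List ℕ) (j : ℕ) : ℕ := w.foldr (fun k i => papp (cs.getD k idP) i) j

theorem ap_lt {cs : List ℕ} (hcs : ∀ c ∈ cs, ok c = true) (w : List ℕ) {j : ℕ} (hj : j < 24) :
    ap cs w j < 24 := by
  induction w with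
  | nil => exact hj
  | cons k w ih => exact papp_lt (ok_iff.1 (ok_getD hcs k)).1 ih

/-- The index of the image of point number `j`. -/
def im (g : M24) (j : ℕ) : ℕ := idx ((g : Equiv.Perm GolayPt) (pt j))

theorem im_lt (g : M24) (j : ℕ) : im g j < 24 := idx_lt _

theorem im_papp {c : ℕ} (hc : ok c = true) (g : M24) (hg : el c * g = g * el c) {j : ℕ}
    (hj : j < 24) : im g (papp c j) = papp c (im g j) := by
  have h1 : pt (papp c j) = el c • pt j := by rw [el_smul_pt hc, idx_pt hj]
  have h2 : (g : Equiv.Perm GolayPt) (pt (papp c j)) = el c • (g • pt j) := by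
    show g • pt (papp c j) = _
    rw [h1, ← mul_smul, ← mul_smul, hg]
  unfold im
  rw [h2, idx_el_smul hc]
  rfl

theorem im_ap {cs : List ℕ} (hcs : ∀ c ∈ cs, ok c = true) (g : M24)
    (hg : ∀ c ∈ cs, el c * g = g * el c) (w : List ℕ) {j : ℕ} (hj : j < 24) :
    im g (ap cs w j) = ap cs w (im g j) := by
  induction w with
  | nil => rfl
  | cons k w ih =>
    show im g (papp (cs.getD k idP) (ap cs w j)) = papp (cs.getD k idP) (ap cs w (im g j))
    rw [← ih]
    refine im_papp (ok_getD hcs k) g ?_ (ap_lt hcs w hj)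
    by_cases hk : k < cs.length
    · rw [List.getD_eq_getElem _ _ hk]
      exact hg _ (List.getElem_mem hk)
    · rw [List.getD_eq_default _ _ (by omega), el_idP, one_mul, mul_one]

/-- The packed permutation with images `q` of the representatives. -/
def build (cs : List ℕ) (wd : List (ℕ × List ℕ)) (q : List ℕ) : ℕ :=
  pack (wd.map fun p => ap cs p.2 (q.getD p.1 0))

/-- All choices from the lists. -/
def search (f : List ℕ → Bool) : List (List ℕ) → List ℕ → Bool
  | [], q => f q
  | c :: cs, q => c.all fun a => search f cs (q ++ [a])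

theorem search_sound (f : List ℕ → Bool) :
    ∀ (cs : List (List ℕ)) (q r : List ℕ), search f cs q = true →
      List.Forall₂ (fun a c => a ∈ c) r cs → f (q ++ r) = true := by
  intro cs
  induction cs with
  | nil =>
    intro q r h hr
    cases hr
    rw [List.append_nil]
    exact h
  | cons c cs ih =>
    intro q r h hr
    cases hr with
    | cons ha hr =>
      rename_i a r
      have h1 := List.all_eq_true.1 h a ha
      have h2 := ih (q ++ [a]) r h1 hr
      rwa [List.append_assoc] at h2

/-- The candidates for the image of a representative. -/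
def cand (cs : List ℕ) (d : ℕ × List (List ℕ)) : List ℕ :=
  (List.range 24).filter fun q => d.2.all fun w => Nat.beq (ap cs w q) q

/-- Whether the words of `wd` lead to the points. -/
def wdOk (cs : List ℕ) (data : List (ℕ × List (List ℕ))) (wd : List (ℕ × List ℕ)) : Bool :=
  Nat.beq wd.length 24 && (List.range 24).all fun j =>
    Nat.beq (ap cs (wd.getD j (0, [])).2 (data.getD (wd.getD j (0, [])).1 (0, [])).1) j &&
      Nat.blt (wd.getD j (0, [])).1 data.length

/-- Whether the words of `data` fix the representatives. -/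
def stOk (cs : List ℕ) (data : List (ℕ × List (List ℕ))) : Bool :=
  data.all fun d => Nat.blt d.1 24 && d.2.all fun w => Nat.beq (ap cs w d.1) d.1

/-- The test of a choice of images. -/
def test (cs : List ℕ) (wd : List (ℕ × List ℕ)) (L : List ℕ) (q : List ℕ) : Bool :=
  !(ok (build cs wd q)) || L.any (Nat.beq (build cs wd q))

/-- The complete check. -/
def chk (cs : List ℕ) (data : List (ℕ × List (List ℕ))) (wd : List (ℕ × List ℕ)) (L : List ℕ) :
    Bool :=
  cs.all ok && wdOk cs data wd && stOk cs data && search (test cs wd L) (data.map (cand cs)) []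

theorem ok_packOf (g : M24) : ok (packOf (g : Equiv.Perm GolayPt)) = true := by
  refine ok_iff.2 ⟨isPerm_packOf _, isAut_of_mem_M24 (isPerm_packOf _) ?_⟩
  rw [permOf_packOf]
  exact g.2

theorem el_packOf (g : M24) : el (packOf (g : Equiv.Perm GolayPt)) = g := by
  apply Subtype.ext
  rw [coe_el (ok_packOf g), permOf_packOf]

/-- **Centralizers by computation.** -/
theorem mem_of_comm {cs : List ℕ} {data : List (ℕ × List (List ℕ))} {wd : List (ℕ × List ℕ)}
    {L : List ℕ} (h : chk cs data wd L = true) (g : M24)
    (hg : ∀ c ∈ cs, el c * g = g * el c) : ∃ P ∈ L, ok P = true ∧ g = el P := by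
  unfold chk at h
  rw [Bool.and_eq_true, Bool.and_eq_true, Bool.and_eq_true] at h
  obtain ⟨⟨⟨h1, h2⟩, h3⟩, h4⟩ := h
  have hcs : ∀ c ∈ cs, ok c = true := fun c hc => List.all_eq_true.1 h1 c hc
  unfold wdOk at h2
  rw [Bool.and_eq_true] at h2
  have hlen : wd.length = 24 := Nat.eq_of_beq_eq_true h2.1
  have hst : ∀ d ∈ data, d.1 < 24 ∧ ∀ w ∈ d.2, ap cs w d.1 = d.1 := by
    intro d hd
    have h5 := List.all_eq_true.1 h3 d hd
    rw [Bool.and_eq_true] at h5
    exact ⟨Nat.blt_eq.mp h5.1, fun w hw => Nat.eq_of_beq_eq_true (List.all_eq_true.1 h5.2 w hw)⟩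
  set q : List ℕ := data.map fun d => im g d.1 with hq
  have hforall : List.Forall₂ (fun a c => a ∈ c) q (data.map (cand cs)) := by
    rw [hq, List.forall₂_map_left_iff, List.forall₂_map_right_iff, List.forall₂_same]
    intro d hd
    unfold cand
    rw [List.mem_filter]
    refine ⟨List.mem_range.2 (im_lt g _), List.all_eq_true.2 fun w hw => ?_⟩
    obtain ⟨h5, h6⟩ := hst d hd
    have h7 := im_ap hcs g hg w h5
    rw [h6 w hw] at h7
    rw [← h7]
    exact Nat.beq_refl _
  have htest := search_sound _ _ _ _ h4 hforall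
  rw [List.nil_append] at htest
  have hbuild : build cs wd q = packOf (g : Equiv.Perm GolayPt) := by
    unfold build packOf
    congr 1
    apply List.ext_getElem
    · rw [List.length_map, List.length_map, List.length_range, hlen]
    · intro i hi1 hi2
      rw [List.length_map] at hi1
      rw [List.getElem_map, List.getElem_map, List.getElem_range]
      have hi : i < 24 := by omega
      have h5 := List.all_eq_true.1 h2.2 i (List.mem_range.2 hi)
      rw [Bool.and_eq_true] at h5
      have h6 := Nat.eq_of_beq_eq_true h5.1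
      have h7 : (wd.getD i (0, [])).1 < data.length := Nat.blt_eq.mp h5.2
      rw [List.getD_eq_getElem _ _ hi1] at h6 h7
      have h8 : q.getD (wd[i]).1 0 = im g (data.getD (wd[i]).1 (0, [])).1 := by
        rw [List.getD_eq_getElem _ _ (by rw [hq, List.length_map]; exact h7),
          List.getD_eq_getElem _ _ h7]
        simp only [hq, List.getElem_map]
      have h9 : (data.getD (wd[i]).1 (0, [])).1 < 24 := by
        rw [List.getD_eq_getElem _ _ h7]
        exact (hst _ (List.getElem_mem h7)).1
      rw [h8, ← im_ap hcs g hg _ h9, h6]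
      rfl
  unfold test at htest
  rw [hbuild, ok_packOf g, Bool.not_true, Bool.false_or] at htest
  obtain ⟨P, hP, hPe⟩ := List.any_eq_true.1 htest
  have h10 := Nat.eq_of_beq_eq_true hPe
  exact ⟨P, hP, h10 ▸ ok_packOf g, by rw [← h10, el_packOf]⟩

end Cfsg.Agent.KFacts.M24Pair.Cent

end

-- merged: Cfsg.Agent.KFacts.M24Pair.Letters
section

/-!
# Root letters of `Cfsg.M24`

`xx k`, `k < 18`: the ten root involutions `X i j` (`1 ≤ i < j ≤ 5`) of a Sylow 2-subgroup of type `UT5(2)` (numbers `0 … 9`
in the order `12 13 14 15 23 24 25 34 35 45`), the opposite root elements `X 3 2 = xx 10`,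
`X 4 3 = xx 11`, and the elements `y1 = xx 12`, `y1⁻¹ = xx 13` (of order 3, in a group `S3` with `X 1 2`),
`y2 = xx 14`, `y2⁻¹ = xx 15` (in a group `S3` with `X 4 5`), `X 2 1 = xx 16`, and `xx 17`, the involution
interchanging `X 1 j` and `X 2 j` (`j ≥ 3`) and `X 1 2`, `X 2 1`. All root letters have 8 fixed points (class `2A`),
`⟨X12, X13, X14, X15⟩` is the octad group `2^4`, `⟨X14, X24, X34, X15, X25, X35⟩` the sextet group `2^6`.
`weq` proves equations between words.
-/

set_option autoImplicit false
set_option Elab.async false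

namespace Cfsg.Agent.KFacts.M24Pair.Letters

open Cfsg Cfsg.Agent.SporadicA.GolayBase Cfsg.Agent.SporadicA.GolayPerm
open Cfsg.Agent.SporadicStructure.M24El Cfsg.Agent.KFacts.M24Pair.Cent

/-- The packed letters. -/
def gx : List ℕ := [895331677915748499267375548929943108, 106832945418929216786996674173099555,
  137946475452688126480473909395947682, 592353204691533442233142632973374465,
  112494624569381642494933542000156195, 154045676456488069852986216677081250,
  610956390715471154959104471240053761, 984806797292990878012365697499365538,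
  984812760466102605412385163952886785, 610519923311516637246277765738632224,
  984807527687663223186964578356536900, 112008758482904261652442838286326816,
  563022143052714033828979765320068743, 880623587263303768114318017559799364,
  609223462358287331424896868625257536, 720034795097686229590439021835814048,
  569410410052268571493238666475056775, 963721886883755259286232606933354528]

theorem gx_ok : ∀ P ∈ gx, ok P = true := by decide +kernel

/-- Letter number `k`. -/
noncomputable def xx (k : ℕ) : M24 := el (gx.getD k idP)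

/-- The number of a root letter. -/
def nr (i j : ℕ) : ℕ :=
  ([[], [20, 20, 0, 1, 2, 3], [20, 16, 20, 4, 5, 6], [20, 20, 10, 20, 7, 8], [20, 20, 20, 11, 20, 9]].getD i
    []).getD j 20

/-- The root letters. -/
noncomputable def X (i j : ℕ) : M24 := xx (nr i j)

theorem xx_of_ge {k : ℕ} (h : 18 ≤ k) : xx k = 1 := by
  unfold xx
  rw [List.getD_eq_default _ _ (by exact h), el_idP]

/-- Value of a word. -/
noncomputable def ev (w : List ℕ) : M24 := (w.map xx).prod

theorem ev_nil : ev [] = 1 := rfl

theorem ev_cons (k : ℕ) (w : List ℕ) : ev (k :: w) = xx k * ev w := List.prod_cons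

theorem ev_append (v w : List ℕ) : ev (v ++ w) = ev v * ev w := by
  unfold ev
  rw [List.map_append, List.prod_append]

theorem el_prodW_eq (w : List ℕ) : el (prodW gx w) = ev w := el_prodW gx_ok w

/-- Equality of words. -/
def weqb (u v : List ℕ) : Bool := Nat.beq (prodW gx u) (prodW gx v)

theorem weq {u v : List ℕ} (h : weqb u v = true) : ev u = ev v := by
  rw [← el_prodW_eq, ← el_prodW_eq, Nat.eq_of_beq_eq_true h]

theorem wne {u v : List ℕ} (h : (List.range 24).any (fun i =>
    !(Nat.beq (papp (prodW gx u) i) (papp (prodW gx v) i))) = true) : ev u ≠ ev v := by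
  intro he
  obtain ⟨i, hi, hne⟩ := List.any_eq_true.1 h
  rw [← el_prodW_eq, ← el_prodW_eq] at he
  have h1 : idx (el (prodW gx u) • pt i) = idx (el (prodW gx v) • pt i) := by rw [he]
  rw [idx_el_smul (ok_prodW gx_ok u), idx_el_smul (ok_prodW gx_ok v),
    idx_pt (List.mem_range.1 hi)] at h1
  rw [h1, Bool.not_eq_true'] at hne
  have := Nat.beq_refl (papp (prodW gx v) i)
  rw [this] at hne
  exact Bool.noConfusion hne

/-! ### Relations -/

/-- the roots -/
def roots : List (ℕ × ℕ) :=
  [(1,2), (1,3), (1,4), (1,5), (2,3), (2,4), (2,5), (3,4), (3,5), (4,5)]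

theorem mem_roots_iff {i j : ℕ} : (i, j) ∈ roots ↔ 1 ≤ i ∧ i < j ∧ j ≤ 5 := by
  constructor
  · intro h
    have : ∀ p ∈ roots, 1 ≤ p.1 ∧ p.1 < p.2 ∧ p.2 ≤ 5 := by decide
    exact this _ h
  · rintro ⟨h1, h2, h3⟩
    have hi : i < 5 := by omega
    interval_cases i <;> interval_cases j <;> decide

theorem xx_sq {k : ℕ} (hk : k < 12) : xx k * xx k = 1 := by
  have key : ∀ k < 12, weqb [k, k] [] = true := by decide +kernel
  have h := weq (key k hk)
  simp only [ev_cons, ev_nil, mul_one] at h
  exact h

theorem y1_inv : xx 12 * xx 13 = 1 := by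
  have h := weq (u := [12, 13]) (v := []) (by decide +kernel)
  simpa only [ev_cons, ev_nil, mul_one] using h

theorem y2_inv : xx 14 * xx 15 = 1 := by
  have h := weq (u := [14, 15]) (v := []) (by decide +kernel)
  simpa only [ev_cons, ev_nil, mul_one] using h

theorem X_sq {i j : ℕ} (h : 1 ≤ i ∧ i < j ∧ j ≤ 5) : X i j * X i j = 1 := by
  have key : ∀ p ∈ roots, nr p.1 p.2 < 12 := by decide
  exact xx_sq (key _ (mem_roots_iff.2 h))

/-- the expected commutator of two roots -/
def cr (p q : ℕ × ℕ) : List ℕ :=
  if p.2 = q.1 then [nr p.1 q.2] else if q.2 = p.1 then [nr q.1 p.2] else []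

theorem cr_ok : ∀ p ∈ roots, ∀ q ∈ roots,
    weqb [nr p.1 p.2, nr q.1 q.2] (cr p q ++ [nr q.1 q.2, nr p.1 p.2]) = true := by
  decide +kernel

/-- The Chevalley relation of two adjacent roots. -/
theorem X_mul {i j k : ℕ} (h1 : 1 ≤ i) (h2 : i < j) (h3 : j < k) (h4 : k ≤ 5) :
    X i j * X j k = X i k * X j k * X i j := by
  have h := weq (cr_ok (i, j) (mem_roots_iff.2 ⟨h1, h2, by omega⟩) (j, k)
    (mem_roots_iff.2 ⟨by omega, h3, h4⟩))
  rw [cr, if_pos rfl] at h
  simp only [ev_append, ev_cons, ev_nil, mul_one] at h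
  rw [mul_assoc]
  exact h

/-- The Chevalley relation of two non-adjacent roots. -/
theorem X_comm {i j k l : ℕ} (hij : 1 ≤ i ∧ i < j ∧ j ≤ 5) (hkl : 1 ≤ k ∧ k < l ∧ l ≤ 5)
    (h1 : j ≠ k) (h2 : l ≠ i) : X i j * X k l = X k l * X i j := by
  have h := weq (cr_ok (i, j) (mem_roots_iff.2 hij) (k, l) (mem_roots_iff.2 hkl))
  rw [cr, if_neg h1, if_neg h2] at h
  simp only [List.nil_append, ev_cons, ev_nil, mul_one] at h
  exact h

theorem X_ne_one {i j : ℕ} (h : 1 ≤ i ∧ i < j ∧ j ≤ 5) : X i j ≠ 1 := by
  have key : ∀ p ∈ roots, (List.range 24).any (fun a => !(Nat.beq (papp (prodW gx [nr p.1 p.2]) a)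
      (papp (prodW gx []) a))) = true := by decide +kernel
  have h1 := wne (key _ (mem_roots_iff.2 h))
  rwa [ev_cons, ev_nil, mul_one] at h1

/-! ### Double centralizers -/

/-- **Double centralizers by computation**: `rs` lists letters, `cs` packed elements commuting with them; an
element commuting with `cs` is a word of `ws`. -/
theorem dcent {rs : List ℕ} {cs : List ℕ} {data : List (ℕ × List (List ℕ))}
    {wd : List (ℕ × List ℕ)} {ws : List (List ℕ)}
    (h1 : chk cs data wd (ws.map (prodW gx)) = true)
    (h2 : (cs.all fun c => rs.all fun r =>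
      Nat.beq (pcomp c (gx.getD r idP)) (pcomp (gx.getD r idP) c)) = true)
    (g : M24) (hg : ∀ c : M24, (∀ r ∈ rs, c * xx r = xx r * c) → c * g = g * c) :
    ∃ w ∈ ws, g = ev w := by
  have hcs : ∀ c ∈ cs, ok c = true := by
    have h3 := h1
    unfold chk at h3
    rw [Bool.and_eq_true, Bool.and_eq_true, Bool.and_eq_true] at h3
    exact fun c hc => List.all_eq_true.1 h3.1.1.1 c hc
  obtain ⟨P, hP, -, he⟩ := mem_of_comm h1 g (fun c hc => hg (el c) fun r hr => by
    have h3 := Nat.eq_of_beq_eq_true (List.all_eq_true.1 (List.all_eq_true.1 h2 c hc) r hr)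
    unfold xx
    rw [← el_pcomp (hcs c hc) (ok_getD gx_ok r), h3, el_pcomp (ok_getD gx_ok r) (hcs c hc)])
  obtain ⟨w, hw, rfl⟩ := List.mem_map.1 hP
  exact ⟨w, hw, by rw [he, el_prodW_eq]⟩

/-- **Centralizers by computation**, of letters. -/
theorem cent {rs : List ℕ} {data : List (ℕ × List (List ℕ))}
    {wd : List (ℕ × List ℕ)} {ws : List (List ℕ)}
    (h1 : chk (rs.map fun r => gx.getD r idP) data wd (ws.map (prodW gx)) = true)
    (g : M24) (hg : ∀ r ∈ rs, xx r * g = g * xx r) : ∃ w ∈ ws, g = ev w := by
  obtain ⟨P, hP, -, he⟩ := mem_of_comm h1 g (fun c hc => by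
    obtain ⟨r, hr, rfl⟩ := List.mem_map.1 hc
    exact hg r hr)
  obtain ⟨w, hw, rfl⟩ := List.mem_map.1 hP
  exact ⟨w, hw, by rw [he, el_prodW_eq]⟩

end Cfsg.Agent.KFacts.M24Pair.Letters

end
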